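import Cfsg.Prelude.Def_Sporadic_a

/-!
# Bitmask model of subsets of the 24 points

`ix`/`pt` number the points (`some x ↦ x.val`, `none ↦ 23`), `ofMask m` is the set of points whose
bit is set in `m`.  `allLT`, `cntLT` are kernel-friendly bounded loops, `pc` is a table-driven
population count of 24-bit numbers.
-/

set_option autoImplicit false

namespace CfsgLib.Golay

open Cfsg

/-! ### kernel-friendly loops -/

/-- `f k` holds for all `k < n`. -/
noncomputable def allLT (n : ℕ) (f : ℕ → Bool) : Bool :=
  Nat.rec true (fun k ih => and (f k) ih) n

theorem allLT_zero (f : ℕ → Bool) : allLT 0 f = true := rfl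
theorem allLT_succ (n : ℕ) (f : ℕ → Bool) : allLT (n + 1) f = (f n && allLT n f) := rfl

theorem allLT_iff (n : ℕ) (f : ℕ → Bool) : allLT n f = true ↔ ∀ k < n, f k = true := by
  induction n with
  | zero => simp [allLT_zero]
  | succ n ih =>
    rw [allLT_succ, Bool.and_eq_true, ih]
    constructor
    · rintro ⟨h1, h2⟩ k hk
      rcases Nat.lt_succ_iff_lt_or_eq.1 hk with h | h
      · exact h2 k h
      · rw [h]; exact h1
    · intro h
      exact ⟨h n (Nat.lt_succ_self n), fun k hk => h k (Nat.lt_succ_of_lt hk)⟩

theorem of_allLT {n : ℕ} {f : ℕ → Bool} (h : allLT n f = true) {k : ℕ} (hk : k < n) : f k = true :=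
  (allLT_iff n f).1 h k hk

/-- number of `k < n` with `f k`. -/
noncomputable def cntLT (n : ℕ) (f : ℕ → Bool) : ℕ :=
  Nat.rec 0 (fun k ih => Bool.rec ih (Nat.succ ih) (f k)) n

theorem cntLT_zero (f : ℕ → Bool) : cntLT 0 f = 0 := rfl
theorem cntLT_succ (n : ℕ) (f : ℕ → Bool) :
    cntLT (n + 1) f = Bool.rec (cntLT n f) (cntLT n f + 1) (f n) := rfl

theorem cntLT_eq_card (n : ℕ) (f : ℕ → Bool) :
    cntLT n f = ((Finset.range n).filter fun k => f k = true).card := by
  induction n with
  | zero => simp [cntLT_zero]
  | succ n ih =>
    rw [cntLT_succ, Finset.range_add_one, Finset.filter_insert, ih]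
    cases h : f n
    · simp
    · simp

/-- all members of a list satisfy `f`. -/
noncomputable def allL {α : Type} (l : List α) (f : α → Bool) : Bool :=
  List.rec true (fun a _ ih => and (f a) ih) l

theorem allL_iff {α : Type} (l : List α) (f : α → Bool) : allL l f = true ↔ ∀ a ∈ l, f a = true := by
  induction l with
  | nil => simp [allL]
  | cons a l ih =>
    have : allL (a :: l) f = (f a && allL l f) := rfl
    rw [this, Bool.and_eq_true, ih]; simp

/-- some member of a list satisfies `f`. -/
noncomputable def anyL {α : Type} (l : List α) (f : α → Bool) : Bool :=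
  List.rec false (fun a _ ih => or (f a) ih) l

theorem anyL_iff {α : Type} (l : List α) (f : α → Bool) : anyL l f = true ↔ ∃ a ∈ l, f a = true := by
  induction l with
  | nil => simp [anyL]
  | cons a l ih =>
    have : anyL (a :: l) f = (f a || anyL l f) := rfl
    rw [this, Bool.or_eq_true, ih]; simp

/-- kernel-friendly `testBit`. -/
def tb (m i : ℕ) : Bool := Nat.beq (Nat.land (Nat.shiftRight m i) 1) 1

theorem tb_eq (m i : ℕ) : tb m i = m.testBit i := by
  have h1 : Nat.land (Nat.shiftRight m i) 1 = (m >>> i) % 2 := Nat.and_one_is_mod _
  rw [tb, h1, Nat.testBit_eq_decide_div_mod_eq, Nat.shiftRight_eq_div_pow]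
  rcases Nat.mod_two_eq_zero_or_one (m / 2 ^ i) with h | h <;> rw [h] <;> rfl

/-! ### numbering of the points -/

/-- index of a point: residues get their value, the extra point gets 23. -/
def ix (p : GolayPt) : ℕ := Option.rec 23 (fun x : ZMod 23 => x.val) p

/-- the point with a given index. -/
def pt (n : ℕ) : GolayPt := if n < 23 then some (n : ZMod 23) else none

theorem ix_none : ix none = 23 := rfl
theorem ix_some (x : ZMod 23) : ix (some x) = x.val := rfl
theorem ix_lt (p : GolayPt) : ix p < 24 := by revert p; decide
theorem pt_ix (p : GolayPt) : pt (ix p) = p := by revert p; decide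
theorem ix_pt {n : ℕ} (h : n < 24) : ix (pt n) = n := by revert n; decide
theorem ix_injective : Function.Injective ix := fun p q h => by rw [← pt_ix p, h, pt_ix]
theorem ix_inj {p q : GolayPt} : ix p = ix q ↔ p = q := ix_injective.eq_iff
theorem pt_inj {a b : ℕ} (ha : a < 24) (hb : b < 24) : pt a = pt b ↔ a = b :=
  ⟨fun h => by rw [← ix_pt ha, h, ix_pt hb], fun h => by rw [h]⟩
theorem card_golayPt : Fintype.card GolayPt = 24 := rfl

/-- the numbering as an equivalence. -/
def ptEquiv : GolayPt ≃ Fin 24 where
  toFun p := ⟨ix p, ix_lt p⟩
  invFun i := pt i
  left_inv p := pt_ix p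
  right_inv i := Fin.ext (ix_pt i.2)

theorem forall_pt {P : GolayPt → Prop} (h : ∀ n < 24, P (pt n)) (p : GolayPt) : P p := by
  rw [← pt_ix p]; exact h _ (ix_lt p)

theorem sum_pt {M : Type*} [AddCommMonoid M] (f : ℕ → M) :
    ∑ p : GolayPt, f (ix p) = ∑ i ∈ Finset.range 24, f i := by
  rw [← Fin.sum_univ_eq_sum_range]
  exact Fintype.sum_equiv ptEquiv _ _ (fun _ => rfl)

/-! ### masks -/

/-- the set of points whose bit is set in `m`. -/
def ofMask (m : ℕ) : Finset GolayPt := Finset.univ.filter fun p => m.testBit (ix p) = true

theorem mem_ofMask {m : ℕ} {p : GolayPt} : p ∈ ofMask m ↔ m.testBit (ix p) = true := by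
  simp [ofMask]

theorem pt_mem_ofMask {m n : ℕ} (h : n < 24) : pt n ∈ ofMask m ↔ m.testBit n = true := by
  rw [mem_ofMask, ix_pt h]

theorem ofMask_zero : ofMask 0 = ∅ := by ext p; simp [mem_ofMask]

theorem ofMask_land (a b : ℕ) : ofMask (a &&& b) = ofMask a ∩ ofMask b := by
  ext p; simp [mem_ofMask]

theorem ofMask_lor (a b : ℕ) : ofMask (a ||| b) = ofMask a ∪ ofMask b := by
  ext p; simp [mem_ofMask]

theorem ofMask_xor (a b : ℕ) : ofMask (a ^^^ b) = symmDiff (ofMask a) (ofMask b) := by
  ext p
  simp only [mem_ofMask, Finset.mem_symmDiff, Nat.testBit_xor]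
  cases a.testBit (ix p) <;> cases b.testBit (ix p) <;> simp

theorem ofMask_two_pow (p : GolayPt) : ofMask (2 ^ ix p) = {p} := by
  ext q
  simp only [mem_ofMask, Finset.mem_singleton, Nat.testBit_two_pow, decide_eq_true_eq, ix_inj]
  exact eq_comm

theorem ofMask_full : ofMask 16777215 = Finset.univ := by
  ext p
  simp only [mem_ofMask, Finset.mem_univ, iff_true]
  revert p; decide

theorem ofMask_compl (a : ℕ) : ofMask (a ^^^ 16777215) = (ofMask a)ᶜ := by
  rw [ofMask_xor, ofMask_full]
  ext p; simp [Finset.mem_symmDiff]

theorem ofMask_sdiff (a b : ℕ) : ofMask (a &&& (b ^^^ 16777215)) = ofMask a \ ofMask b := by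
  rw [ofMask_land, ofMask_compl]; ext p; simp

theorem ofMask_injOn {a b : ℕ} (ha : a < 2 ^ 24) (hb : b < 2 ^ 24) (h : ofMask a = ofMask b) :
    a = b := by
  apply Nat.eq_of_testBit_eq
  intro i
  by_cases hi : i < 24
  · have := congrArg (fun s => pt i ∈ s) h
    simp only [pt_mem_ofMask hi, eq_iff_iff] at this
    cases h1 : a.testBit i <;> cases h2 : b.testBit i <;> simp_all
  · have h24 : 2 ^ 24 ≤ 2 ^ i := Nat.pow_le_pow_right (by norm_num) (by omega)
    rw [Nat.testBit_lt_two_pow (lt_of_lt_of_le ha h24), Nat.testBit_lt_two_pow (lt_of_lt_of_le hb h24)]

theorem ofMask_inj {a b : ℕ} (ha : a < 2 ^ 24) (hb : b < 2 ^ 24) : ofMask a = ofMask b ↔ a = b :=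
  ⟨ofMask_injOn ha hb, fun h => by rw [h]⟩

theorem exists_mask (s : Finset GolayPt) : ∃ m < 2 ^ 24, ofMask m = s := by
  classical
  induction s using Finset.induction_on with
  | empty => exact ⟨0, by norm_num, ofMask_zero⟩
  | insert p s _ ih =>
    obtain ⟨m, hm, rfl⟩ := ih
    refine ⟨2 ^ ix p ||| m, Nat.or_lt_two_pow (Nat.pow_lt_pow_right (by norm_num) (ix_lt p)) hm, ?_⟩
    rw [ofMask_lor, ofMask_two_pow]; rfl

theorem ofMask_subset {a b : ℕ} (h : a &&& b = a) : ofMask a ⊆ ofMask b := by
  rw [← h, ofMask_land]; exact Finset.inter_subset_right

theorem ofMask_subset_iff {a b : ℕ} (ha : a < 2 ^ 24) : ofMask a ⊆ ofMask b ↔ a &&& b = a := by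
  refine ⟨fun h => ?_, ofMask_subset⟩
  apply ofMask_injOn (lt_of_le_of_lt Nat.and_le_left ha) ha
  rw [ofMask_land, Finset.inter_eq_left.2 h]

theorem ofMask_eq_empty_iff {a : ℕ} (ha : a < 2 ^ 24) : ofMask a = ∅ ↔ a = 0 := by
  rw [← ofMask_zero, ofMask_inj ha (by norm_num)]

theorem ofMask_disjoint_iff {a b : ℕ} (ha : a < 2 ^ 24) :
    Disjoint (ofMask a) (ofMask b) ↔ a &&& b = 0 := by
  rw [Finset.disjoint_iff_inter_eq_empty, ← ofMask_land,
    ofMask_eq_empty_iff (lt_of_le_of_lt Nat.and_le_left ha)]

theorem ofMask_mod (a : ℕ) : ofMask (a % 2 ^ 24) = ofMask a := by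
  ext p; rw [mem_ofMask, mem_ofMask, Nat.testBit_mod_two_pow]; simp [ix_lt]

/-! ### population count -/

/-- naive population count of the lowest `n` bits. -/
noncomputable def pcN (n m : ℕ) : ℕ :=
  Nat.rec (motive := fun _ => ℕ → ℕ) (fun _ => 0)
    (fun _ ih m => Nat.add (Nat.land m 1) (ih (Nat.shiftRight m 1))) n m

theorem pcN_succ (n m : ℕ) : pcN (n + 1) m = (m &&& 1) + pcN n (m >>> 1) := rfl

theorem pcN_eq_sum (n m : ℕ) :
    pcN n m = ∑ i ∈ Finset.range n, if m.testBit i = true then 1 else 0 := by
  induction n generalizing m with
  | zero => rfl
  | succ n ih =>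
    rw [pcN_succ, ih, Finset.sum_range_succ', add_comm]
    congr 1
    · apply Finset.sum_congr rfl
      intro i _
      rw [Nat.testBit_shiftRight, add_comm]
    · rw [Nat.and_one_is_mod, Nat.testBit_zero]
      rcases Nat.mod_two_eq_zero_or_one m with h | h <;> simp [h]

theorem card_ofMask_pcN (m : ℕ) : (ofMask m).card = pcN 24 m := by
  rw [pcN_eq_sum, ofMask, Finset.card_filter]
  exact sum_pt (fun i => if m.testBit i = true then 1 else 0)

/-- table of the population counts of the numbers below 4096, four bits each. -/
def pcTbl : ℕ := 0xcbbabaa9baa9a998baa9a998a9989887baa9a998a9989887a998988798878776baa9a998a9989887a998988798878776a9989887988787769887877687767665baa9a998a9989887a998988798878776a9989887988787769887877687767665a998988798878776988787768776766598878776877676658776766576656554baa9a998a9989887a998988798878776a9989887988787769887877687767665a998988798878776988787768776766598878776877676658776766576656554a9989887988787769887877687767665988787768776766587767665766565549887877687767665877676657665655487767665766565547665655465545443baa9a998a9989887a998988798878776a9989887988787769887877687767665a9989887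98878776988787768776766598878776877676658776766576656554a9989887988787769887877687767665988787768776766587767665766565549887877687767665877676657665655487767665766565547665655465545443a998988798878776988787768776766598878776877676658776766576656554988787768776766587767665766565548776766576656554766565546554544398878776877676658776766576656554877676657665655476656554655454438776766576656554766565546554544376656554655454436554544354434332baa9a998a9989887a998988798878776a9989887988787769887877687767665a998988798878776988787768776766598878776877676658776766576656554a9989887988787769887877687767665988787768776766587767665766565549887877687767665877676657665655487767665766565547665655465545443a998988798878776988787768776766598878776877676658776766576656554988787768776766587767665766565548776766576656554766565546554544398878776877676658776766576656554877676657665655476656554655454438776766576656554766565546554544376656554655454436554544354434332a9989887988787769887877687767665988787768776766587767665766565549887877687767665877676657665655487767665766565547665655465545443988787768776766587767665766565548776766576656554766565546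554544387767665766565547665655465545443766565546554544365545443544343329887877687767665877676657665655487767665766565547665655465545443877676657665655476656554655454437665655465545443655454435443433287767665766565547665655465545443766565546554544365545443544343327665655465545443655454435443433265545443544343325443433243323221baa9a998a9989887a998988798878776a9989887988787769887877687767665a998988798878776988787768776766598878776877676658776766576656554a9989887988787769887877687767665988787768776766587767665766565549887877687767665877676657665655487767665766565547665655465545443a998988798878776988787768776766598878776877676658776766576656554988787768776766587767665766565548776766576656554766565546554544398878776877676658776766576656554877676657665655476656554655454438776766576656554766565546554544376656554655454436554544354434332a998988798878776988787768776766598878776877676658776766576656554988787768776766587767665766565548776766576656554766565546554544398878776877676658776766576656554877676657665655476656554655454438776766576656554766565546554544376656554655454436554544354434332988787768776766587767665766565548776766576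6565547665655465545443877676657665655476656554655454437665655465545443655454435443433287767665766565547665655465545443766565546554544365545443544343327665655465545443655454435443433265545443544343325443433243323221a998988798878776988787768776766598878776877676658776766576656554988787768776766587767665766565548776766576656554766565546554544398878776877676658776766576656554877676657665655476656554655454438776766576656554766565546554544376656554655454436554544354434332988787768776766587767665766565548776766576656554766565546554544387767665766565547665655465545443766565546554544365545443544343328776766576656554766565546554544376656554655454436554544354434332766565546554544365545443544343326554544354434332544343324332322198878776877676658776766576656554877676657665655476656554655454438776766576656554766565546554544376656554655454436554544354434332877676657665655476656554655454437665655465545443655454435443433276656554655454436554544354434332655454435443433254434332433232218776766576656554766565546554544376656554655454436554544354434332766565546554544365545443544343326554544354434332544343324332322176656554655454436554544354434332655454435443433254434332433232216554544354434332544343324332322154434332433232214332322132212110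

/-- population count of a 12-bit number. -/
def pc12 (k : ℕ) : ℕ := Nat.land (Nat.shiftRight pcTbl (Nat.mul 4 k)) 15

/-- population count of a 24-bit number. -/
def pc (m : ℕ) : ℕ := Nat.add (pc12 (Nat.land m 4095)) (pc12 (Nat.shiftRight m 12))

theorem pc12_check : allLT 4096 (fun k => Nat.beq (pc12 k) (pcN 12 k)) = true := by decide +kernel

theorem pc12_eq {k : ℕ} (hk : k < 4096) : pc12 k = pcN 12 k :=
  Nat.eq_of_beq_eq_true (of_allLT pc12_check hk)

theorem pc_eq_pcN {m : ℕ} (hm : m < 2 ^ 24) : pc m = pcN 24 m := by
  have h1 : Nat.land m 4095 = m % 2 ^ 12 := Nat.and_two_pow_sub_one_eq_mod m 12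
  have h2 : Nat.shiftRight m 12 = m >>> 12 := rfl
  have h3 : m >>> 12 < 4096 := by rw [Nat.shiftRight_eq_div_pow]; omega
  have h4 : pc m = pc12 (m % 2 ^ 12) + pc12 (m >>> 12) := by rw [pc, h1, h2]; rfl
  rw [h4, pc12_eq h3, pc12_eq (k := m % 2 ^ 12) (Nat.mod_lt _ (by norm_num)), pcN_eq_sum, pcN_eq_sum, pcN_eq_sum,
    show 24 = 12 + 12 from rfl, Finset.sum_range_add]
  refine congrArg₂ (· + ·) ?_ ?_
  · apply Finset.sum_congr rfl
    intro i hi
    rw [Nat.testBit_mod_two_pow]
    simp [Finset.mem_range.1 hi]
  · apply Finset.sum_congr rfl
    intro i _
    rw [Nat.testBit_shiftRight]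

theorem card_ofMask {m : ℕ} (hm : m < 2 ^ 24) : (ofMask m).card = pc m := by
  rw [card_ofMask_pcN, pc_eq_pcN hm]

theorem card_inter_ofMask {a : ℕ} (ha : a < 2 ^ 24) (b : ℕ) :
    (ofMask a ∩ ofMask b).card = pc (a &&& b) := by
  rw [← ofMask_land, card_ofMask (lt_of_le_of_lt Nat.and_le_left ha)]

end CfsgLib.Golay
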