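import Cfsg.Agent.Lib.Golay.Mask

/-!
# The Golay code in bitmask form

`cw k` (`k < 4096`) runs through the masks of the 4096 code words (`cw k % 4096 = k`), `isCode m` tests
membership.  Weights, counts, dimension, self-duality.
-/

set_option autoImplicit false

namespace CfsgLib.Golay

open Cfsg

/-- The family of supports of Golay code words. -/
abbrev codeSets : Set (Finset GolayPt) := supports (golayCode : Set (GolayPt → ZMod 2))

theorem mem_octads {s : Finset GolayPt} : s ∈ octads ↔ s ∈ codeSets ∧ s.card = 8 := Iff.rfl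
theorem mem_dodecads {s : Finset GolayPt} : s ∈ dodecads ↔ s ∈ codeSets ∧ s.card = 12 := Iff.rfl

/-! ### words and supports -/

theorem mem_support₂ {α : Type*} [Fintype α] {w : α → ZMod 2} {a : α} : a ∈ support₂ w ↔ w a ≠ 0 := by
  show a ∈ Finset.univ.filter (fun a => w a ≠ 0) ↔ _
  simp

theorem zmod2_eq_zero_or_one (x : ZMod 2) : x = 0 ∨ x = 1 := by revert x; decide

/-- indicator word of a finite set. -/
def ind {α : Type*} [DecidableEq α] (s : Finset α) : α → ZMod 2 := fun p => if p ∈ s then 1 else 0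

theorem support₂_ind {α : Type*} [Fintype α] [DecidableEq α] (s : Finset α) : support₂ (ind s) = s := by
  ext p; rw [mem_support₂]; by_cases h : p ∈ s <;> simp [ind, h]

theorem ind_support₂ {α : Type*} [Fintype α] [DecidableEq α] (w : α → ZMod 2) : ind (support₂ w) = w := by
  funext p
  rcases zmod2_eq_zero_or_one (w p) with h | h <;> simp [ind, mem_support₂, h]

theorem support₂_injective {α : Type*} [Fintype α] :
    Function.Injective (support₂ : (α → ZMod 2) → Finset α) := by
  classical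
  intro v w h; rw [← ind_support₂ v, h, ind_support₂]

theorem ind_symmDiff {α : Type*} [DecidableEq α] (s t : Finset α) :
    ind (symmDiff s t) = ind s + ind t := by
  funext p
  by_cases h1 : p ∈ s <;> by_cases h2 : p ∈ t <;> simp [ind, Finset.mem_symmDiff, h1, h2]
  rfl

theorem support₂_add {α : Type*} [Fintype α] [DecidableEq α] (v w : α → ZMod 2) :
    support₂ (v + w) = symmDiff (support₂ v) (support₂ w) := by
  rw [← support₂_ind (symmDiff _ _), ind_symmDiff, ind_support₂, ind_support₂]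

theorem hammingNorm_eq_card {α : Type*} [Fintype α] (w : α → ZMod 2) :
    hammingNorm w = (support₂ w).card := rfl

theorem dot_eq_card_inter {α : Type*} [Fintype α] [DecidableEq α] (v w : α → ZMod 2) :
    ∑ i, v i * w i = ((support₂ v ∩ support₂ w).card : ZMod 2) := by
  rw [Finset.card_eq_sum_ones, Nat.cast_sum, ← Finset.sum_subset (Finset.subset_univ (support₂ v ∩ support₂ w))]
  · apply Finset.sum_congr rfl
    intro i hi
    rw [Finset.mem_inter, mem_support₂, mem_support₂] at hi
    rcases zmod2_eq_zero_or_one (v i) with h | h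
    · exact absurd h hi.1
    rcases zmod2_eq_zero_or_one (w i) with h' | h'
    · exact absurd h' hi.2
    simp [h, h']
  · intro i _ hi
    rw [Finset.mem_inter, mem_support₂, mem_support₂] at hi
    by_cases h : v i = 0
    · simp [h]
    · have : w i = 0 := by tauto
      simp [this]

theorem mem_codeSets_iff {s : Finset GolayPt} : s ∈ codeSets ↔ ind s ∈ golayCode := by
  constructor
  · rintro ⟨w, hw, rfl⟩
    rw [ind_support₂]; exact hw
  · intro h; exact ⟨ind s, h, support₂_ind s⟩

theorem support₂_mem_codeSets {w : GolayPt → ZMod 2} : support₂ w ∈ codeSets ↔ w ∈ golayCode := by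
  rw [mem_codeSets_iff, ind_support₂]

theorem symmDiff_mem_codeSets {s t : Finset GolayPt} (hs : s ∈ codeSets) (ht : t ∈ codeSets) :
    symmDiff s t ∈ codeSets := by
  rw [mem_codeSets_iff] at *
  rw [ind_symmDiff]; exact golayCode.add_mem hs ht

theorem empty_mem_codeSets : (∅ : Finset GolayPt) ∈ codeSets := by
  rw [mem_codeSets_iff]
  have : ind (∅ : Finset GolayPt) = 0 := by funext p; simp [ind]
  rw [this]; exact golayCode.zero_mem

theorem univ_mem_codeSets : (Finset.univ : Finset GolayPt) ∈ codeSets := by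
  rw [mem_codeSets_iff]
  have : ind (Finset.univ : Finset GolayPt) = 1 := by funext p; simp [ind]
  rw [this]; exact Submodule.subset_span (Set.mem_union_right _ rfl)

theorem compl_mem_codeSets {s : Finset GolayPt} (hs : s ∈ codeSets) : sᶜ ∈ codeSets := by
  have := symmDiff_mem_codeSets hs univ_mem_codeSets
  have h2 : symmDiff s Finset.univ = sᶜ := by ext p; simp [Finset.mem_symmDiff]
  rwa [h2] at this

/-- Induction principle: a family of sets containing the generators and closed under symmetric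
difference contains all code sets. -/
theorem codeSets_induction {P : Finset GolayPt → Prop} (h0 : P ∅)
    (hq : ∀ t : ZMod 23, P (support₂ (qrWord t))) (h1 : P Finset.univ)
    (hadd : ∀ s t, P s → P t → P (symmDiff s t)) {s : Finset GolayPt} (hs : s ∈ codeSets) : P s := by
  obtain ⟨w, hw, rfl⟩ := hs
  have hw' : w ∈ Submodule.span (ZMod 2) (Set.range qrWord ∪ {1}) := hw
  clear hw
  induction hw' using Submodule.span_induction with
  | mem x hx =>
    rcases hx with ⟨t, rfl⟩ | hx
    · exact hq t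
    · have : support₂ x = Finset.univ := by
        rw [Set.mem_singleton_iff.1 hx]; ext p; simp [mem_support₂]
      rw [this]; exact h1
  | zero =>
    have : support₂ (0 : GolayPt → ZMod 2) = ∅ := by ext p; simp [mem_support₂]
    rw [this]; exact h0
  | add x y _ _ hx hy => rw [support₂_add]; exact hadd _ _ hx hy
  | smul a x _ hx =>
    rcases zmod2_eq_zero_or_one a with h | h
    · have : support₂ (a • x) = ∅ := by ext p; simp [mem_support₂, h]
      rw [this]; exact h0
    · rw [h, one_smul]; exact hx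

/-! ### xor-combinations of lists of masks -/

/-- xor of the members of the list selected by the bits of `k`. -/
noncomputable def encL (l : List ℕ) : ℕ → ℕ :=
  List.rec (fun _ => 0)
    (fun b _ ih k => Nat.xor (Nat.mul (Nat.land k 1) b) (ih (Nat.shiftRight k 1))) l

theorem encL_nil (k : ℕ) : encL [] k = 0 := rfl
theorem encL_cons (b : ℕ) (l : List ℕ) (k : ℕ) :
    encL (b :: l) k = ((k &&& 1) * b) ^^^ encL l (k >>> 1) := rfl

theorem encL_xor (l : List ℕ) (j k : ℕ) : encL l (j ^^^ k) = encL l j ^^^ encL l k := by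
  induction l generalizing j k with
  | nil => simp [encL_nil]
  | cons b l ih =>
    rw [encL_cons, encL_cons, encL_cons, Nat.shiftRight_xor_distrib, ih]
    have : ((j ^^^ k) &&& 1) * b = ((j &&& 1) * b) ^^^ ((k &&& 1) * b) := by
      rw [Nat.and_xor_distrib_right, Nat.and_one_is_mod, Nat.and_one_is_mod]
      rcases Nat.mod_two_eq_zero_or_one j with h | h <;>
        rcases Nat.mod_two_eq_zero_or_one k with h' | h' <;> simp [h, h']
    rw [this]
    simp only [Nat.xor_assoc]
    congr 1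
    rw [← Nat.xor_assoc, ← Nat.xor_assoc, Nat.xor_comm (encL l _)]

/-- a property of masks closed under xor passes to all combinations. -/
theorem encL_induction {P : ℕ → Prop} (h0 : P 0) (hx : ∀ a b, P a → P b → P (a ^^^ b))
    (l : List ℕ) (hl : ∀ b ∈ l, P b) (k : ℕ) : P (encL l k) := by
  induction l generalizing k with
  | nil => exact h0
  | cons b l ih =>
    rw [encL_cons]
    apply hx
    · rw [Nat.and_one_is_mod]
      rcases Nat.mod_two_eq_zero_or_one k with h | h
      · rw [h, zero_mul]; exact h0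
      · rw [h, one_mul]; exact hl b (by simp)
    · exact ih (fun c hc => hl c (by simp [hc])) _

/-! ### the code words -/

/-- masks of the 24 generating words. -/
def genMasks : List ℕ := [340831, 681662, 1363324, 2726648, 5453296, 2517985, 5035970, 1683333,
  3366666, 6733332, 5078057, 1767507, 3535014, 7070028, 5751449, 3114291, 6228582, 4068557, 8137114,
  7885621, 7382635, 6376663, 4364719, 16777215]

/-- a basis of the code, systematic on the coordinates 0, …, 11 (all twelve are octads). -/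
def basisMasks : List ℕ := [13062145, 4845570, 13938692, 7221256, 10170384, 11952160, 15515712,
  2019456, 4038912, 8077824, 11654144, 14919680]

/-- table of the parity parts, twelve bits each. -/
def parTbl : ℕ := 0xfff38ab607152b4ec162ba5e91c569d831f64578220c8cbd64ca392d3ea6b07772f983ed0afcda430845de419197b50e4998ec006c739d25a7d4d13827ae0f6e5a90f31344bae7dbd2a15f9b55c0061c144fe88bbc97bcf56323682af721de68133d465ac9d9c7800d8e74927d0ba534ff3aa9b6eee042718804f5c1f06a5cb9be154d21e63216afc689328f5d7b7bc2a55620eca2bf71eb6b381ff4cb60c382945c1fdd885629173e6f93779b0cead2d8a3264750597019adef84e43bcd10a4e12267a8d6f8359f2c7c6bb38f1484c6e01b5ba9cf125d507a1bd433ef4baea69fe75200142d375dd9a8c0907c8964e35749011ebd9e83f44aca00d5397fe2708b7dedc2a9a43636cc70b285842d18cdf9513966a24651ebb2ce76fb1a3f0f850decab441834d951e090a57f63da482a2ed7b76703fe939c96d518df21874268530b9cccf8e3fbb117642c5eb065aa2fbb87cdf273526f3a8626ce19d5b12e9c45b1010c6548f8fa20be7e694ae1f40335bdf7aa4e889d077c029a35d6d3c149c250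508ba4cf16ed1b5f1984ac66b3e5922c78dbf8312f675969e3109d7c8dd4a8c42037375f007eab9fe3e24baa16d4743b363dcfa9a0867de972e21a0dd553f94aceb09e874401ef0285a6f61a3bbfce724b51813466c8c0f955892d1c7db22e9e9c676a03fa23d7b3d74840a87f095ce0941534dde1abb5a72ffc53b0611a6428eefbdb91cc9265530f2c8746d81898f5fad101654c48b105bc2ef6c319bf3786227e526b8acd03cc494a38d6d771029e859d6dfaaa240e35b947e1f0b37edc81bd957522083cf641c869b2b75efb43c1660a152ffe8a47b80e0e4c91930545daf1da298eed607a72fd33a6b4c7396aeadb231e44be5790f7a30f04dc384d28a7d061739995ecf1d368b827f7256e236c9abc9fe58bd611144b58c002ac5f304f7179bbeee4f23aad06a55e7992178d0d8ac4d9c33046ab76c2e2825d7fcb89363f16c540218cb4be11fd6a5809f5862417cfd08852995c1b6dc3e812f4a1e66b3cafbf755b201d1da454e93bc9a0ef805470732b473adfd8a7960cee629384b43ecd40a150097519fdeaea82dda376423e3f9677cb091f8d8d567912cb30c682c45971bb6e384ff1a50625ecf2ba32df587b2bc7e66213af968c5ce9bb151d248854f0c1a06fa9e6ebe012747d5ba034af3fc7d0088e2497136d435a99dc687af2218e6dbcc7b9f53326064c114fb88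ed2f15a9b05c5f34341bab7de27fe0a6e0a959d75a2d4813d49c8e9003c76de119497e50b0aacdf435840b02777f9d3e8649a3c2d6ea34528270cdcb891956cd861f32b1ec462ea5bffa38fb657109a65d3d3914c4ed898072c07f45330bda7af20ee7b691ae4015c6048a8ffd5e12b9c15b46f6a83269e1cbbd7c8f223572c0eb565fa2af8b3feb147614238560bccc996851ddf7182b73706fec399638a4d2a7ed2d901e590f57a0dbcae44483176ab1f3f5f80a21654ebe2cb189dfc516963cc20b785d428ed92aca46633392fe770db7883a44fca50d05719041eed9bc0c0798934e6147d325d89adaef69ae702057a4bd133bf4e5bf9ca120d558f4481c6b01e35cf297c3bb6e17262a886fdb917e4f0e37b6daaaf245e30d721079ed598039c4c4a68d3222e576bdac8f6931cbf67834c18b405ec2b98a5ffd151600f7c8246881ddbc1c9923556614a6128befeb5f72afc03b5944531ddb1ae40f87a090ce5fa73d2b3874d2ece99673a0655d9281c2db7816463c890fc3befcb721b54ef5280a6a61fcee09b8714041a5dd053a94fa0d678e922e7746b333d9face3b24eaa46d1370f057efb9a8d84adc470325939e610cd79788bfd317f62ac36b6e5c22916bd1e5f4981c200558bf4caa7c609ee3296737b423a8fddc9f0ea8004751d4da154b93e3cffba750b25e842f1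a1b66e52c9591b3dc6867412cf808d11ad6f5859f0c510248ce4bb7f9b8c366f13ab26c7e2d2588a94dcc360435e299717dd08e4a23fad56a0301f7479ebeb4b08c502fc5a9fb58ed64111253e266ccab9f1836db877f2d0317699c5e9048c3d4d78a2be0795f7f30a6abade234e41fd63a3b4973c29dee8602a77935540daa1df47e80b0e1c94665a102fae8fb2e75bfb13c4086cf341986cdcd1b89525274e289707dc089a95dcd36143201e7469eaebf4a33fbd57a0d511249ce5bb01ac6f4858f0bb27c7f2d3586f9a8c266e13f843f1b1b76e2cfeba650a25967512df818d42c8590b3cc6637a422a8eddb7c709fe33960d4ca144b83ed9f1ea900575a2e65beb12c4765b103faf8fccd0b8852427186df351996c39dfe8702b77ed62a3a4963c57e90b1e1d94835440caa0df148d3d5d79a2c0307689c4e97abbde334f41ae0695e7f20a8fb48ec640115b09c512fd5ae1826da876f2353f267ccbb950f97a190de5844431cdb0ae3ecf99773b06ea72d2a3864dcbc0c98234561f7d8256891da5f62aec02b5714b6138bffee6921caf6683322f577bdbc888a4ffc150605c19b415ed2b7dabaf345f30a916e4e0e27b139d4c5a69d3c720078ed498bc37b6f5c329688afd217e62d201559bf5ca06bc1e4f4881270e056efa9af3b34eba47d14938e600cc799d85add471320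a5cd043a84fdee19b971504646a332d9eacb0d778f923e7916563d891fc45d8280c2cb7ff5380b6a71f2beecb621a54738b4d3a7fd2a73606eec2991dbdae544931c900e580f47ae8b2fea146613c0fb575fb2a86841dcf70825239561bcdc9c5e02b8c14b4115d6058a9ffabd6c8e222577f6b83369f1c5ed998172d078a64d3c3904c30ef7b791be4e45230ada6af9f4581d6b11e4bf8ca020c55f17362b887fd25ce296c3ab6047c324d88add0c1799935e66a4ad123be4ebef79af70305292ee760da78fd93acb467334718040eec9b93a54fda51d0b21754fbe3cb66aa1f2f5e80dc21b795d528089cfc4168636d5aa024ae3fb9e7ebf01374036c434a98dcd7d1089e2597f66313bf978c22de586b2ac79855f0d1a16f4ce8bb051c24db31c692c5590f8c8d467812b50725fcf3ba61ba6e284ef140087509fcea94b53edd41a12e3e9667ca09fa83ddb3774281946cc860f35529271cddb8efa28fa656103b1fc472eb5b1aaddf535940ce109487e40b749b3c3d6fa3a02677e9d2e837ff0a7e0b95e34241aab6de59c9e9103d768d74a2c4803dacc6b9e53226787bf2318f6dc2f05a8b04c5164d115fb98e356f237c9bbce1d268a826f75b59c012ad5f8fe48bc61014ae5690e7a20f7aebdb331f44c060738994ec14dd385d29a7830445caf0da57b90e1e4d91ed32a6a4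c639398fed707b72183df651c969cc80bd857422760b153fff8aa2b65eeb42c1d9a1ef9055700d1ca444e83bb7970cfe6393632a472aded842985c0b6cc3962517dfd1882caebf655a20f813f4b1e76b6fca89263e16bb77c2f2835d01fc6a4808f5d541219cb5bef4f33abd07a5204e7169baee9ac5d9d331464e7892078c0d2bbece624a51ff0385b6f71a45882d0c7cb2913566d8c1f9b0877df973e2643a362dcea9deb19e9745010a0cd543f84a9dd5a8d421374968e3009c7cf3e34bba17d4275e006eaa9f06ec1b4f1884d251509ba5cf68daf8212e67bc67b3f5932cc770028e849d13cd495a39d6a946e1e0b27e7dfbaa340f355c49b115bd2e88f4fac10065327f527b8bcde6c219af3686711b6438effba5a62fec52b01f2d8756d918cb90cc826453ea22d7a3d6483e9f9c776b03841434cde0ab50a97f195de008ccf9413866dc71b295852d66fa1a2f0e85b24751fbb3ce93f54ada01d54748010ebc9efdc3a9b43736297ee2608a7dbea79ff753006a1ad423ee4bd0917c9965e3042c374dd8a8259e2c6c6ab3f12367b8d7f84ba8cf025c509f1584d6e11be40235adf6aa30bf7e794be18a34d6c3c0495e899d177d027f3b8636cf19ab86cde27252110d6558f9fac5b02e8c44b15269531b9dcc86d418cf20873c5fb075ab2fe8e2fba11664c950e080a47f1de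dab541934a76603ee929c73db483a2fd7161d145fe98bc2a05f8b54c0782bf731df68ac96bce562238d24a7c4d0385999ec106d73e31244aae6db37af0f7e5b90a07672e982ed74cb393d3fa6ce409187b40e1afdda5309453b4fc172bb5eeff28aa606155579221c8dbd81c469c830f6fad3d8b327472e6e93679a0c94e53bdd11a440587009acef61ea6b281ef4b55720fca3bf0fdc88462817db61c392955c4cb8be054c219805f5d1f16a228e5d6b7ac2f63316bfc789d7810d9e7592033c464ac8d9b9b7eef043716d0aa524fe3a1c5db055a92fc8e0fb811464726b533b9fcca6d618ef2287876403ce909c53d9481a2dd7e952e0a0a67f3defab741b34aa36d6e3c2497e8b9d377f02c400358df4aa10bd7e5949e1310f6578fbfae5b22eac46b15f398616cd198b84cdc27052f0937cb967e3242e376ddaa89ea59fd751004a18d403ec4b6baacf225e50bf1784f6e31b059c2c4c68b3d1216798d5f846f81a0f0c85924551dbb1ce28cef9613a66fc73b2b5872dddc1a9943536097ce240887db3f74afa03d5674a012ebe9e028c5d4b78c2d631169fc5896cbabe254e21b807f5f1f36a99b5eed041714d08a504fc3af7830dbe7792233e466acad9b4e73bfd13a4605a7029aeefdad1d89325470e6c9347980c2fde88662a17fb63c3b2975c41e86b081cf4955520dca1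bfee4291a7b60e3affda730b45807472c980ed54c9391d3da6757b223c8fbda1c669e832f61b4dc152b95ecff08a8604155829f711dd688c94bcc56023361f147feb8be2a25fab56c0c310448ae4db17ad0f5e5990ad26a7e4d238799bec306f7321fe6a680af5f54321bcb7be4fc889063c169b75c2d2815dbac7d9f333466e7a92278e0dd4f13a9d05a5004c7149b8ee97950cde61934328470adcd8f9a3efb057702d1ea464ea3b0cacbf455820d811f491e56b629a5c2b6ec3b62717ffd388cd30a684c439198ded507972a30645eaf2da77bb0e3e4f915609151ffd8a82b45ecb40c1383ff671cb69ec82bda576227b5bc032af5fafe68be61214156d235c99bcc1d0688824f7e06273a996ec34df387d2ba78e5490c7a00f5ae9db131d443f2f8776db18eb92cca2665351196418edfb85a42fcc50b0a41634ede2ab70ab7f395fe0ca20d783d4481e9d9c5769038944e1c0b07e5df9aa140d35e77202ae869d33cf497a3bd6127d525b89cdc6c0198f34867c4bb135bf2ea8f6fae10265d3e14b9a15d4075c004ea89fbdd7a8f42337696ae3209e7c48d8f8012c679c65b3d5912c26ee1b6f1a84f25350bba7cf658a2d2c7eb2b13766f8c3f90bbcce424851df018596f51afeb39eb747012a0ed563fa4a90857dd971e24438360dcca9671a042eee9bb3a74ffa53d0092ce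740d878dd91ac946533fc23b7b5d728289efc616a63921554dbe1cb46a81f0f5c80d171629885fd05cc294c38b6bf4781f6b31e6bfaca220e554a48d103bc4e9ef59ad70105247e326d8aadf0c379b937e68bd4c8c220575f6983169d1ce5e22bac16b4315f6078abff10ed7b5919e4c450308da4af7edb98372f07aa66d3e3924c3dbfae744b31e902e5a0f67a53894d1a7dd2873406cec099a6861def7282723b563bcfc9c8b0fe8144611c0db555f92a79cbe9303f76ad76a2e4823d17fd0a5e0995c340418ab4dee2f25aab06c5364f117fbb8e8cc4b9c530265879f2118d6dcfa08f8654101b1dc452e95ba1966ce862f3752b273cdfb854993c1d6da3802477c9d0e83aafdf735b40ee1294a7e60b950525dcf1ba41b86e084cf1fb33c6b2c7592f8e8d667a120e3c9647c809da81dd937542600a7529feeab4b73efd43a1236e436a9adcf7d308be27974d58a004ac3f99e5ebd01174b857f0f1a36f6ceabb251e24d661139f958c02dc584b28c75ab9de134d418e0495c7f00a348f3d7d7ba2e03276a9c6e9c1806d8874f2153d265cc9b9afb68ee642117b0bc532ff5aecd2b8a52627386ff3719b6c82e45bcb10c45659101fad8f77eb0b3e1f94a35640eaa2df19dde8502977cd60a384943cb67712ff838d62ca592b3ec6d841f191b56e0cfcba4508252d4ea164ba3e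f9f3eab007754378420a8cdd97c509de3196001c7449e8ebd4a13f9d55a06e2a9727de08ba97dcf363439b25c7d2d1584f988c066c13f51324bce7bb21ae6f685af04468330d9cac90d578d921e72a5ed063aa4ffee39bb71704df518096a51f0beccb421854b16763f893fc65da282c2eb7f20355bbf7ca26be1e6f4a819c35b6d5c1294888fd017c62693ae620ce79bd87adf47332070c054ef89ad3b14e9a45d1a8a6ffe152607c1bb435ef2bc6901c8f6483122d575bd9c8339f4c7a6bd3e72207aed6985da9af145d308914e4c0e07b1ecd99573906ca70d283844d70fb7a390fe5a44631edb2ae85f42acc00b551496118bdfeebc2c9a236563f7f82768b1dad86ade47232793be630cf79c3b04e8a44d1170d055ef99a36bf1e7f4b81e20255abf6ca5889fd117d628c34b6c5c0291bedcb521954cf508086a41f75db283c2fb7a16663e892fc80d478c920e75469331d9daceee29ba716043a5fd073ab4f41486108bcfe95f52adc01b52f7e82668a1dfbc3c9b23756da71d293854d0ecc99473806b44731fdb3ae60fa7a290ee5f72307bed798239e4c6a6ad39915e4d0e17b4da8af045c306c1ab425ee2bb8a7fff15360022c574bd8c8d6911c9f6583b35740faa3df67ea0b2e1e94dd61a394953c09dce8402877286ef3619a6cfcd3b8b527274658100fac8f92e55bd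b11c4053c264cc8b9d1816d9875f26b0ac522fe5abfb78ef643119e0595d7f10a4ab8de034c41f03376b9c7e9248e3d6d7aa25f998c166d138b24c7c2d05831af6f785bf0e51224ace6bbc4a03f8d54a0101d7459e9ebaa96dce362437e2b9737df08e9f2eaa006753d4fa174bb3e87c409ce30965379421a8ddd72cb593b3fc6a67612ef828d1cfdba550925c840f181b46e902577d9d1e844983c0d6ca3fe1394b7e70b2aaedf635a400b1cc442e85bdfa18f965510652a272cdeb8b1976cf863f3264e116fba8ef2f35abb07c54878f2018c6d9cc5b9d53126bd77a2f4833d69cae9203e76d341419ab5de07fc0a4e08957cebbb351f24a856f0e1a26f12dd585b29c7c660138f948ce7d208ae2697336f437a9bdc89e4ebc010745d59a014ad3fca80dd8374421e3d9657c909a4b63eed42a1700b7539ffea51b96e184df1850425ccf0ba3f8f8d767b12eb32c6a2c6598ef49ac700055a49d113bd4ee0c279a936e6347f327d8bad15cd295c39b6c170628884fd7bfbca320f55af4681e6b21e389ffc716b63ec22b7a5d62856a91f1f5d80821454cbe0cba3a64fea52d0771b043eef9bcd90ac846433192de750d978623a562bcec9b6871dff73820c0cb545f82ad8b1fe914561f903e5b0f77a2dbeae644a31973506dec19943884d0a7cd2d451309da5af00ec7b4918e4ba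67d3f3934c6eda98272e074f6883069c1c9bd5c8d22157215e6068aafff5e32bbc17b4d6c1199f3586027c524b88cdb8f7faf103656c4ab125be2e4df8aa040c359945e1d0b17e23ce496a3ad6f77302be879d60aa7f295ee0b41734fde3ab0e9c9c476803da21d793d548fb93ccb267532f2e8766da1895a52fdc51b041186408ecfb3a0fd573fb4aeeb29ea746015439361dcda980847dc970e2a13666e8c2f9758b2d3c7fb2cf008586f41a1bbdce5249518c64b3c5902c58d9f8112d67e25250aba6cf36ef1b7f1b84175d005ea99fc3e04b8a14d4796be3309f7cadd6a8e42237c810f481e46b1cadbf555920a62617efd288729b5c3b6fc35329471addd887940cce60933d1fa474eb3be9a2efa056707e7b92378f0daac6d9e33246104d7159b9eec4f03a8d04a5e54221acb6be31ff6a780bf58b74c2c2805d5fc989163d1624de386d2aa7f06373b997ec4ae8db031c449e5590d7a10fbfe78bf613146b5ac022ae5fd1d1689825f7056c234c98bc92b55edb41c14608150ffc8afc83bdb57722283ef661ca69098ced407872dd31a694c53967ba0e2e4e91b30745faf3daeb62c3a2965c3fdf88762b17855420cca0bf51e96b181df4705b7039afefa4e63bed12a41e6d9357990ccad0d88324475d09a514fd3a89b4eec04071333f467acbd9e7820dae7692c630168fc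489128d5d5b79c2a806f5e1f26a7cbbbe354f2107ac0f4e5890d311449ae5db699aec206e73bd27a7f4d3389c95bcd561234828f701dc68f2a35fbb57c0261e146fea8bb1c769f833f6657a222c8ebddff18a9605150b4cc142b85e2afeda630a45fe4391b7b70e44c8390d3ca6907572d981edf5b32ebc47b1210e6568fafa9b85cdd271524f388606cc196e8a9d277e02ba37d6f3c34900bc7e4948e1d401359df5aa43d8480a2cd7976503de919c2deeab641a34f953e0b0a77fd8e1fb9115640c5cb045a82fb6d718ff2387626a532b9ecc197de250897dcdc0a9843436774b013ebf9ea3f64aea02d5824451cbb0ce56f91a1f0d85ec72b2a5862d38cff9713b66af1684e6e21b7babcf325f50c1206788d4f8159d2c5c69b3342f377ddba8e0927ca966e35a19d413ed4b8ea49fc75000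

/-- parity part of the code word with information part `k`. -/
def par (k : ℕ) : ℕ := Nat.land (Nat.shiftRight parTbl (Nat.mul 12 k)) 4095

/-- the code word with information part `k < 4096`. -/
def cw (k : ℕ) : ℕ := Nat.lor k (Nat.shiftLeft (par k) 12)

/-- membership test for 24-bit masks. -/
def isCode (m : ℕ) : Bool := Nat.beq (par (Nat.land m 4095)) (Nat.shiftRight m 12)

theorem cw_check : allLT 4096 (fun k => Nat.beq (cw k) (encL basisMasks k)) = true := by decide +kernel

theorem cw_eq_encL {k : ℕ} (hk : k < 4096) : cw k = encL basisMasks k :=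
  Nat.eq_of_beq_eq_true (of_allLT cw_check hk)

theorem par_lt (k : ℕ) : par k < 4096 := by
  have : par k = (parTbl >>> (12 * k)) &&& 4095 := rfl
  rw [this]; exact lt_of_le_of_lt Nat.and_le_right (by norm_num)

theorem cw_eq {k : ℕ} (hk : k < 4096) : cw k = 4096 * par k + k := by
  have : cw k = k ||| (par k <<< 12) := rfl
  rw [this, Nat.or_comm, Nat.shiftLeft_eq, mul_comm, ← Nat.two_pow_add_eq_or_of_lt (i := 12) hk]

theorem cw_lt {k : ℕ} (hk : k < 4096) : cw k < 2 ^ 24 := by
  have := par_lt k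
  rw [cw_eq hk]; omega

theorem cw_mod {k : ℕ} (hk : k < 4096) : cw k % 4096 = k := by
  rw [cw_eq hk]; omega

theorem land_4095 (m : ℕ) : Nat.land m 4095 = m % 4096 := Nat.and_two_pow_sub_one_eq_mod m 12

theorem isCode_iff {m : ℕ} : isCode m = true ↔ cw (m % 4096) = m := by
  have h1 : isCode m = Nat.beq (par (m % 4096)) (m / 4096) := by
    rw [isCode, land_4095]
    congr 1
    exact Nat.shiftRight_eq_div_pow m 12
  rw [h1, Nat.beq_eq, cw_eq (Nat.mod_lt _ (by norm_num))]
  constructor
  · intro h; rw [h]; omega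
  · intro h; omega

theorem isCode_cw {k : ℕ} (hk : k < 4096) : isCode (cw k) = true := by
  rw [isCode_iff, cw_mod hk]

theorem lt_of_isCode {m : ℕ} (h : isCode m = true) : m < 2 ^ 24 := by
  rw [← isCode_iff.1 h]; exact cw_lt (Nat.mod_lt _ (by norm_num))

theorem cw_xor {j k : ℕ} (hj : j < 4096) (hk : k < 4096) : cw (j ^^^ k) = cw j ^^^ cw k := by
  rw [cw_eq_encL hj, cw_eq_encL hk, cw_eq_encL (Nat.xor_lt_two_pow (n := 12) hj hk), encL_xor]

theorem isCode_xor {a b : ℕ} (ha : isCode a = true) (hb : isCode b = true) :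
    isCode (a ^^^ b) = true := by
  rw [← isCode_iff.1 ha, ← isCode_iff.1 hb,
    ← cw_xor (Nat.mod_lt _ (by norm_num)) (Nat.mod_lt _ (by norm_num))]
  exact isCode_cw (Nat.xor_lt_two_pow (n := 12) (Nat.mod_lt _ (by norm_num)) (Nat.mod_lt _ (by norm_num)))

theorem support₂_qrWord (t : ZMod 23) : support₂ (qrWord t) = ofMask (genMasks.getD t.val 0) := by
  ext p
  rw [mem_support₂, mem_ofMask]
  revert t p
  decide +kernel

theorem genMasks_mem : ∀ b ∈ genMasks, ofMask b ∈ codeSets := by
  have h : ∀ b ∈ genMasks, b = 16777215 ∨ ∃ t : ZMod 23, b = genMasks.getD t.val 0 := by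
    decide +kernel
  intro b hb
  rcases h b hb with rfl | ⟨t, rfl⟩
  · rw [ofMask_full]; exact univ_mem_codeSets
  · rw [← support₂_qrWord, support₂_mem_codeSets]
    exact Submodule.subset_span (Set.mem_union_left _ ⟨t, rfl⟩)

theorem encL_mem_codeSets (l : List ℕ) (hl : ∀ b ∈ l, ofMask b ∈ codeSets) (k : ℕ) :
    ofMask (encL l k) ∈ codeSets := by
  refine encL_induction (P := fun m => ofMask m ∈ codeSets) ?_ ?_ l hl k
  · rw [ofMask_zero]; exact empty_mem_codeSets
  · intro a b ha hb; rw [ofMask_xor]; exact symmDiff_mem_codeSets ha hb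

theorem basisMasks_mem : ∀ b ∈ basisMasks, ofMask b ∈ codeSets := by
  have h : basisMasks = [8390313, 280, 8389785, 1400, 8390330, 8390551, 8390093, 2000, 1347, 101,
      8390243, 8390181].map (encL genMasks) := by decide +kernel
  intro b hb
  rw [h, List.mem_map] at hb
  obtain ⟨c, _, rfl⟩ := hb
  exact encL_mem_codeSets _ genMasks_mem c

theorem cw_mem {k : ℕ} (hk : k < 4096) : ofMask (cw k) ∈ codeSets := by
  rw [cw_eq_encL hk]; exact encL_mem_codeSets _ basisMasks_mem k

theorem mem_of_isCode {m : ℕ} (h : isCode m = true) : ofMask m ∈ codeSets := by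
  rw [← isCode_iff.1 h]; exact cw_mem (Nat.mod_lt _ (by norm_num))

theorem exists_isCode {s : Finset GolayPt} (hs : s ∈ codeSets) : ∃ m, isCode m = true ∧ ofMask m = s := by
  refine codeSets_induction (P := fun s => ∃ m, isCode m = true ∧ ofMask m = s) ?_ ?_ ?_ ?_ hs
  · exact ⟨0, by decide +kernel, ofMask_zero⟩
  · intro t
    refine ⟨_, ?_, (support₂_qrWord t).symm⟩
    revert t; decide +kernel
  · exact ⟨16777215, by decide +kernel, ofMask_full⟩
  · rintro s t ⟨a, ha, rfl⟩ ⟨b, hb, rfl⟩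
    exact ⟨a ^^^ b, isCode_xor ha hb, ofMask_xor a b⟩

/-- every code set is `ofMask (cw k)` for some `k < 4096`. -/
theorem exists_cw {s : Finset GolayPt} (hs : s ∈ codeSets) : ∃ k < 4096, ofMask (cw k) = s := by
  obtain ⟨m, hm, rfl⟩ := exists_isCode hs
  exact ⟨m % 4096, Nat.mod_lt _ (by norm_num), by rw [isCode_iff.1 hm]⟩

theorem ofMask_mem_iff {m : ℕ} (hm : m < 2 ^ 24) : ofMask m ∈ codeSets ↔ isCode m = true := by
  refine ⟨fun h => ?_, mem_of_isCode⟩
  obtain ⟨m', h1, h2⟩ := exists_isCode h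
  rw [← ofMask_injOn (lt_of_isCode h1) hm h2]; exact h1

theorem ofMask_mem_octads {m : ℕ} (hm : m < 2 ^ 24) :
    ofMask m ∈ octads ↔ isCode m = true ∧ pc m = 8 := by
  rw [mem_octads, ofMask_mem_iff hm, card_ofMask hm]

theorem ofMask_mem_dodecads {m : ℕ} (hm : m < 2 ^ 24) :
    ofMask m ∈ dodecads ↔ isCode m = true ∧ pc m = 12 := by
  rw [mem_dodecads, ofMask_mem_iff hm, card_ofMask hm]

theorem ofMask_cw_inj {j k : ℕ} (hj : j < 4096) (hk : k < 4096) (h : ofMask (cw j) = ofMask (cw k)) :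
    j = k := by
  rw [← cw_mod hj, ofMask_injOn (cw_lt hj) (cw_lt hk) h, cw_mod hk]

/-- A property closed under symmetric difference holding for the twelve basis octads holds on the code. -/
theorem codeSets_induction_basis {P : Finset GolayPt → Prop} (h0 : P ∅)
    (hb : ∀ b ∈ basisMasks, P (ofMask b))
    (hadd : ∀ s t, P s → P t → P (symmDiff s t)) {s : Finset GolayPt} (hs : s ∈ codeSets) : P s := by
  obtain ⟨k, hk, rfl⟩ := exists_cw hs
  rw [cw_eq_encL hk]
  refine encL_induction (P := fun m => P (ofMask m)) ?_ ?_ _ hb k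
  · rw [ofMask_zero]; exact h0
  · intro a b ha hb; rw [ofMask_xor]; exact hadd _ _ ha hb

theorem basisMasks_lt : ∀ b ∈ basisMasks, b < 2 ^ 24 := by decide +kernel

theorem basisMasks_octads : ∀ b ∈ basisMasks, ofMask b ∈ octads := by
  intro b hb
  have h : ∀ b ∈ basisMasks, b < 2 ^ 24 ∧ pc b = 8 := by decide +kernel
  exact ⟨basisMasks_mem b hb, by rw [card_ofMask (h b hb).1, (h b hb).2]⟩

/-- Universal statements over the code by a loop over the 4096 words. -/
theorem forall_code {P : Finset GolayPt → Prop} (f : ℕ → Bool)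
    (hf : ∀ m, isCode m = true → f m = true → P (ofMask m))
    (h : allLT 4096 (fun k => f (cw k)) = true) {s : Finset GolayPt} (hs : s ∈ codeSets) : P s := by
  obtain ⟨k, hk, rfl⟩ := exists_cw hs
  exact hf _ (isCode_cw hk) (of_allLT h hk)

/-- Counting code sets by a loop over the 4096 words. -/
theorem ncard_code {S : Set (Finset GolayPt)} (f : ℕ → Bool) (hS : S ⊆ codeSets)
    (hf : ∀ m, isCode m = true → (ofMask m ∈ S ↔ f m = true)) :
    S.ncard = cntLT 4096 (fun k => f (cw k)) := by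
  rw [cntLT_eq_card, ← Set.ncard_coe_finset]
  symm
  refine Set.ncard_congr (fun k _ => ofMask (cw k)) ?_ ?_ ?_
  · intro k hk
    simp only [Finset.coe_filter, Finset.mem_range, Set.mem_ofPred_eq] at hk
    exact (hf _ (isCode_cw hk.1)).2 hk.2
  · intro j k hj hk h
    simp only [Finset.coe_filter, Finset.mem_range, Set.mem_ofPred_eq] at hj hk
    exact ofMask_cw_inj hj.1 hk.1 h
  · intro s hs
    obtain ⟨k, hk, rfl⟩ := exists_cw (hS hs)
    refine ⟨k, ?_, rfl⟩
    simp only [Finset.coe_filter, Finset.mem_range, Set.mem_ofPred_eq]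
    exact ⟨hk, (hf _ (isCode_cw hk)).1 hs⟩

theorem ncard_codeSets : codeSets.ncard = 4096 := by
  rw [ncard_code (fun _ => true) subset_rfl (fun m hm => by simp [mem_of_isCode hm])]
  decide +kernel

theorem card_golayCode : Nat.card golayCode = 4096 := by
  rw [← ncard_codeSets]
  show _ = (support₂ '' (golayCode : Set (GolayPt → ZMod 2))).ncard
  rw [Set.ncard_image_of_injective _ support₂_injective]
  rfl

theorem finrank_golayCode : Module.finrank (ZMod 2) golayCode = 12 := by
  have h := Module.natCard_eq_pow_finrank (K := ZMod 2) (V := golayCode)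
  rw [card_golayCode, Nat.card_zmod] at h
  exact (Nat.pow_right_injective (le_refl 2) (show 2 ^ 12 = 2 ^ _ from h)).symm

theorem card_codeSet {s : Finset GolayPt} (hs : s ∈ codeSets) :
    s.card = 0 ∨ s.card = 8 ∨ s.card = 12 ∨ s.card = 16 ∨ s.card = 24 := by
  refine forall_code (P := fun s => s.card = 0 ∨ s.card = 8 ∨ s.card = 12 ∨ s.card = 16 ∨ s.card = 24)
    (fun m => tb 0x1011101 (pc m)) ?_ (by decide +kernel) hs
  intro m hm h
  rw [card_ofMask (lt_of_isCode hm)]
  rw [tb_eq] at h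
  have h2 : pc m < 25 := by
    rw [← card_ofMask (lt_of_isCode hm)]
    exact Nat.lt_succ_of_le (Finset.card_le_univ _)
  generalize pc m = n at h h2
  revert h
  revert n
  decide +kernel

theorem ncard_octads : octads.ncard = 759 := by
  rw [ncard_code (fun m => Nat.beq (pc m) 8) (fun _ h => h.1)
    (fun m hm => by rw [ofMask_mem_octads (lt_of_isCode hm)]; simp [hm])]
  decide +kernel

theorem ncard_dodecads : dodecads.ncard = 2576 := by
  rw [ncard_code (fun m => Nat.beq (pc m) 12) (fun _ h => h.1)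
    (fun m hm => by rw [ofMask_mem_dodecads (lt_of_isCode hm)]; simp [hm])]
  decide +kernel

theorem card_symmDiff_add {α : Type*} [DecidableEq α] (s t : Finset α) :
    (symmDiff s t).card + 2 * (s ∩ t).card = s.card + t.card := by
  have h1 := Finset.card_sdiff_add_card_inter s t
  have h2 := Finset.card_sdiff_add_card_inter t s
  have h3 : (symmDiff s t).card = (s \ t).card + (t \ s).card := by
    rw [symmDiff_def, Finset.sup_eq_union, Finset.card_union_of_disjoint]
    exact disjoint_sdiff_sdiff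
  rw [Finset.inter_comm t s] at h2
  omega

/-- two code sets meet evenly. -/
theorem even_card_inter {s t : Finset GolayPt} (hs : s ∈ codeSets) (ht : t ∈ codeSets) :
    Even (s ∩ t).card := by
  have h1 := card_codeSet hs
  have h2 := card_codeSet ht
  have h3 := card_codeSet (symmDiff_mem_codeSets hs ht)
  have h4 := card_symmDiff_add s t
  rw [Nat.even_iff]
  omega

theorem inter_symmDiff_card {α : Type*} [DecidableEq α] (b s t : Finset α) :
    (b ∩ symmDiff s t).card + 2 * (b ∩ s ∩ t).card = (b ∩ s).card + (b ∩ t).card := by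
  have h := card_symmDiff_add (b ∩ s) (b ∩ t)
  have h1 : symmDiff (b ∩ s) (b ∩ t) = b ∩ symmDiff s t := by
    ext p; simp only [Finset.mem_symmDiff, Finset.mem_inter]; tauto
  have h2 : b ∩ s ∩ (b ∩ t) = b ∩ s ∩ t := by
    ext p; simp only [Finset.mem_inter]; tauto
  rwa [h1, h2] at h

/-- Self-duality: a set meeting the twelve basis octads evenly is a code set. -/
theorem mem_codeSets_of_even_basis {s : Finset GolayPt}
    (h : ∀ b ∈ basisMasks, Even (ofMask b ∩ s).card) : s ∈ codeSets := by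
  obtain ⟨m, hm, rfl⟩ := exists_mask s
  have hk : m % 4096 < 4096 := Nat.mod_lt _ (by norm_num)
  have key : allLT 4096 (fun j => or (Nat.beq j 0)
      (anyL basisMasks fun b => tb (pc (Nat.land b (Nat.mul j 4096))) 0)) = true := by decide +kernel
  set d := m ^^^ cw (m % 4096) with hd
  have hdlt : d < 2 ^ 24 := Nat.xor_lt_two_pow hm (cw_lt hk)
  have hd0 : d % 4096 = 0 := by
    rw [hd, show 4096 = 2 ^ 12 from rfl, Nat.xor_mod_two_pow]
    have := cw_mod hk
    rw [show (2 : ℕ) ^ 12 = 4096 from rfl, this, Nat.xor_self]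
  have hj : d / 4096 < 4096 := by omega
  have h1 := of_allLT key hj
  have hdj : d / 4096 * 4096 = d := by omega
  rw [Bool.or_eq_true, anyL_iff] at h1
  rcases h1 with h1 | ⟨b, hb, h1⟩
  · have : d = 0 := by have := Nat.eq_of_beq_eq_true h1; omega
    have h2 : m = cw (m % 4096) := Nat.eq_of_xor_eq_zero this
    rw [h2]; exact cw_mem hk
  · exfalso
    have hbl : b < 2 ^ 24 := basisMasks_lt b hb
    have h2 : Nat.land b (Nat.mul (d / 4096) 4096) = b &&& d := by
      show b &&& (d / 4096 * 4096) = _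
      rw [hdj]
    rw [h2, tb_eq, ← card_inter_ofMask hbl, Nat.testBit_zero, hd, ofMask_xor] at h1
    have h3 := inter_symmDiff_card (ofMask b) (ofMask m) (ofMask (cw (m % 4096)))
    have h4 := Nat.even_iff.1 (h b hb)
    have h5 := Nat.even_iff.1 (even_card_inter (basisMasks_mem b hb) (cw_mem hk))
    simp only [decide_eq_true_eq] at h1
    omega

/-- Self-duality: a set meeting all octads evenly is a code set. -/
theorem mem_codeSets_of_even_octads {s : Finset GolayPt}
    (h : ∀ o ∈ octads, Even (o ∩ s).card) : s ∈ codeSets :=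
  mem_codeSets_of_even_basis fun b hb => h _ (basisMasks_octads b hb)

theorem mem_golayCode_of_orth {w : GolayPt → ZMod 2} (h : ∀ v ∈ golayCode, ∑ i, v i * w i = 0) :
    w ∈ golayCode := by
  rw [← support₂_mem_codeSets]
  apply mem_codeSets_of_even_octads
  intro o ho
  have := h _ (mem_codeSets_iff.1 ho.1)
  rw [dot_eq_card_inter, support₂_ind] at this
  exact (ZMod.natCast_eq_zero_iff_even).1 this

theorem dot_eq_zero {v w : GolayPt → ZMod 2} (hv : v ∈ golayCode) (hw : w ∈ golayCode) :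
    ∑ i, v i * w i = 0 := by
  rw [dot_eq_card_inter]
  exact (ZMod.natCast_eq_zero_iff_even).2
    (even_card_inter (support₂_mem_codeSets.2 hv) (support₂_mem_codeSets.2 hw))

/-- a code set with fewer than 8 points is empty. -/
theorem eq_empty_of_card_lt {s : Finset GolayPt} (hs : s ∈ codeSets) (h : s.card < 8) : s = ∅ := by
  rw [← Finset.card_eq_zero]
  have := card_codeSet hs
  omega

/-- two octads with at least five common points coincide. -/
theorem octad_eq_of_five_le {o o' : Finset GolayPt} (ho : o ∈ octads) (ho' : o' ∈ octads)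
    (h : 5 ≤ (o ∩ o').card) : o = o' := by
  have h1 := card_symmDiff_add o o'
  have h2 := eq_empty_of_card_lt (symmDiff_mem_codeSets ho.1 ho'.1) (by
    have := ho.2; have := ho'.2; omega)
  exact symmDiff_eq_bot.1 h2

theorem card_inter_octads {o o' : Finset GolayPt} (ho : o ∈ octads) (ho' : o' ∈ octads)
    (h : o ≠ o') : (o ∩ o').card = 0 ∨ (o ∩ o').card = 2 ∨ (o ∩ o').card = 4 := by
  have h1 := Nat.even_iff.1 (even_card_inter ho.1 ho'.1)
  have h2 : ¬ 5 ≤ (o ∩ o').card := fun h5 => h (octad_eq_of_five_le ho ho' h5)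
  omega

theorem compl_mem_dodecads {d : Finset GolayPt} (hd : d ∈ dodecads) : dᶜ ∈ dodecads :=
  ⟨compl_mem_codeSets hd.1, by rw [Finset.card_compl, card_golayPt, hd.2]⟩

end CfsgLib.Golay
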